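import Groth.Agent.Etbc.H209.Induct

/-!
# Cohomology of schemes with finite discrete underlying space

`vanish`: on a scheme `Z` with finitely many points, all closed, `H^n(Z, F) = 0`, `n ≥ 1`, for `ℓ`-primary torsion `F`
if it vanishes for the spectra of the residue fields.
-/

set_option autoImplicit false
universe u

open CategoryTheory CategoryTheory.Limits AlgebraicGeometry Opposite TopologicalSpace

namespace Groth.Agent.Etbc.H209.FinT1

open Groth.Agent.CurvesA Groth.Agent.Etbase.EtSections
  Groth.Agent.EtpbcA.Artin Groth.Agent.EtpbcA Groth.Agent.EtpbcA.SuppFilt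
  Groth.Agent.Etbc.H209.PrimFilt Groth.Agent.Etbc.H211.PrimTors Groth.Agent.Etbc.H209.Induct

variable {Z : Scheme.{u}} (ℓ : ℕ)

/-- Vanishing for sheaves with support in a finite set of closed points. -/
theorem vanish_finset (hcl : ∀ z : Z, IsClosed ({z} : Set Z)) (n : ℕ)
    (h : ∀ (z : Z) (G : EtCoh.Ab (Spec (Z.residueField z))), _root_.Dix.IsPrimaryTorsion ℓ G →
      Subsingleton (EtCoh.H (Spec (Z.residueField z)) G (n + 1)))
    (T : Finset Z) : ∀ F : EtCoh.Ab Z, _root_.Dix.IsPrimaryTorsion ℓ F →
      (∀ z ∈ EtPBC.supp F, z ∈ T) → Subsingleton (EtCoh.H Z F (n + 1)) := by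
  classical
  induction T using Finset.induction_on with
  | empty =>
    intro F _ hs
    exact CdEtLeray.H_subsingleton_of_isZero
      (isZero_of_forall F fun z hz => Finset.notMem_empty z (hs z hz)) _
  | insert z T hzT ih =>
    intro F hF hs
    have hci : IsClosedImmersion (Z.fromSpecResidueField z) :=
      isClosed_singleton_iff_isClosedImmersion.1 (hcl z)
    let i := Z.fromSpecResidueField z
    let u := (EtCoh.pullPushAdj i).unit.app F
    have hzr : Set.range i = {z} := Z.range_fromSpecResidueField z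
    have hG : _root_.Dix.IsPrimaryTorsion ℓ ((EtCoh.pull i).obj F) := isPrimaryTorsion_pull ℓ i F hF
    have hz : z ∈ Set.range i := by
      rw [hzr]
      rfl
    refine van_of_ker_coker u n ?_ (SuppClosed.H_push_subsingleton i _ _ (Nat.succ_pos n) (h z _ hG)) ?_
    · have hsub : EtPBC.supp (kernel u) ⊆ EtPBC.supp F := SuppCons.supp_subset_of_mono (kernel.ι u)
      refine ih _ (isPrimaryTorsion_of_mono (kernel.ι u) hF) (fun y hy => ?_)
      have h2 := hs y (hsub hy)
      rw [Finset.mem_insert] at h2
      refine h2.resolve_left fun h3 => ?_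
      subst h3
      exact UnitPt.not_mem_supp_kernel i F hz hy
    · refine CdEtLeray.H_subsingleton_of_isZero (isZero_of_forall _ fun y hy => ?_) _
      have h2 : y ∈ closure (Set.range i) :=
        supp_push_subset i _ (SuppClosed.supp_of_epi (cokernel.π u) hy)
      rw [hzr, (hcl z).closure_eq] at h2
      have h3 : y = z := h2
      subst h3
      exact UnitPt.not_mem_supp_cokernel i F hz hy

/-- Vanishing on a scheme with finitely many points, all closed. -/
theorem vanish [Finite Z] (hcl : ∀ z : Z, IsClosed ({z} : Set Z)) (n : ℕ) (hn : 1 ≤ n)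
    (h : ∀ (z : Z) (G : EtCoh.Ab (Spec (Z.residueField z))), _root_.Dix.IsPrimaryTorsion ℓ G →
      Subsingleton (EtCoh.H (Spec (Z.residueField z)) G n))
    (F : EtCoh.Ab Z) (hF : _root_.Dix.IsPrimaryTorsion ℓ F) : Subsingleton (EtCoh.H Z F n) := by
  obtain ⟨n, rfl⟩ : ∃ k, n = k + 1 := ⟨n - 1, by omega⟩
  have := Fintype.ofFinite Z
  exact vanish_finset ℓ hcl n h Finset.univ F hF fun z _ => Finset.mem_univ z

end Groth.Agent.Etbc.H209.FinT1
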