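import Groth.Agent.Etbase.PullUnit2
import Groth.Agent.EtpbcA.StalkTools
import Groth.Agent.EtpbcA.ArtinSupp
import Groth.Agent.EtpbcA.RpushTors
import Mathlib.AlgebraicGeometry.Morphisms.Preimmersion

/-!
# The unit `F ⟶ f_* f⁻¹ F` of a preimmersion is an isomorphism on the stalks at points of the image

For a preimmersion `f : Z ⟶ Y` (e.g. `Spec κ(y) ⟶ Y`) and an abelian étale sheaf `F` on `Y`:
* `exists_locally_unit`: every section of `f_* f⁻¹ F` near a point of the image of `f` is, étale locally, the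
  unit of a section of `F`;
* `not_mem_supp_kernel`, `not_mem_supp_cokernel`: points of the image of `f` are not in the support of the kernel and
  the cokernel of the unit.
-/

set_option autoImplicit false
universe u

open CategoryTheory CategoryTheory.Limits AlgebraicGeometry Opposite

namespace Groth.Agent.Etbc.H209.UnitPt

open Groth.Agent.Etbase Groth.Agent.Etbase.EtSections

variable {Z Y : Scheme.{u}} (f : Z ⟶ Y)

/-- The projection `Z ×_Y V → V` from the base change of an étale `V`. -/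
noncomputable abbrev pr (V : Y.Etale) : ((EtCoh.bc f).obj V).left ⟶ V.left :=
  (pullback.fst V.hom f : ((EtCoh.bc f).obj V).left ⟶ V.left)

theorem map_pr {V W : Y.Etale} (g : V ⟶ W) :
    ((EtCoh.bc f).map g).left ≫ pr f W = pr f V ≫ g.left :=
  pullback.lift_fst _ _ _

theorem map_pr_apply {V W : Y.Etale} (g : V ⟶ W) (z : ((EtCoh.bc f).obj V).left) :
    pr f W (((EtCoh.bc f).map g).left z) = g.left (pr f V z) := by
  rw [← Scheme.Hom.comp_apply, map_pr, Scheme.Hom.comp_apply]

theorem exists_pr_eq (V : Y.Etale) (v : V.left) (h : V.hom v ∈ Set.range f) :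
    ∃ z : ((EtCoh.bc f).obj V).left, pr f V z = v := by
  obtain ⟨z₀, hz₀⟩ := h
  obtain ⟨z, hz, -⟩ := Scheme.Pullback.exists_preimage_pullback (f := V.hom) (g := f) v z₀ hz₀.symm
  exact ⟨z, hz⟩

theorem isEmbedding_fst {A : Scheme.{u}} [IsPreimmersion f] (g : A ⟶ Y) :
    Topology.IsEmbedding (pullback.fst g f) :=
  (pullback.fst g f).isEmbedding

theorem isEmbedding_pr [IsPreimmersion f] (V : Y.Etale) : Topology.IsEmbedding (pr f V) :=
  isEmbedding_fst f (A := V.left) V.hom

/-- Sections of `f_* f⁻¹ F` are, étale locally near points of the image of `f`, units of sections of `F`. -/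
theorem exists_locally_unit [IsPreimmersion f] (F : EtCoh.Ab Y) (V : Y.Etale) (v : V.left)
    (hv : V.hom v ∈ Set.range f)
    (t : EtCoh.sect ((EtCoh.push f).obj ((EtCoh.pull f).obj F)) V) :
    ∃ (V' : Y.Etale) (g : V' ⟶ V) (v' : V'.left), g.left v' = v ∧ ∃ σ : EtCoh.sect F V',
      ((EtCoh.pullPushAdj f).unit.app F).hom.app (op V') σ =
        ((EtCoh.push f).obj ((EtCoh.pull f).obj F)).obj.map g.op t := by
  obtain ⟨z, hz⟩ := exists_pr_eq f V v hv
  let G : EtCoh.Ab Z := (EtCoh.pull f).obj F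
  let t' : EtCoh.sect G ((EtCoh.bc f).obj V) := t
  obtain ⟨V₁, σ, W, a, b, w, haw, hab⟩ := PullUnit2.exists_locally_unitSect f F
    ((EtCoh.bc f).obj V) t' z
  let τ : EtCoh.sect G ((EtCoh.bc f).obj V₁) := PullUnit.unitSect f F V₁ σ
  have hab' : G.obj.map a.op t' = G.obj.map b.op τ := hab
  -- the product `P = V ×_Y V₁` and the map `c : W → Z ×_Y P`
  let P : Y.Etale := V ⨯ V₁
  let p₁ : P ⟶ V := Limits.prod.fst
  let p₂ : P ⟶ V₁ := Limits.prod.snd
  let hlim : IsLimit ((EtCoh.bc f).mapCone (BinaryFan.mk p₁ p₂)) :=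
    isLimitOfPreserves (EtCoh.bc f) (prodIsProd V V₁)
  let hlim' : IsLimit (BinaryFan.mk ((EtCoh.bc f).map p₁) ((EtCoh.bc f).map p₂)) :=
    mapIsLimitOfPreservesOfIsLimit (EtCoh.bc f) p₁ p₂ (prodIsProd V V₁)
  obtain ⟨c, hca, hcb⟩ : ∃ c : W ⟶ (EtCoh.bc f).obj P,
      c ≫ (EtCoh.bc f).map p₁ = a ∧ c ≫ (EtCoh.bc f).map p₂ = b :=
    ⟨BinaryFan.IsLimit.lift hlim' a b, hlim'.fac (BinaryFan.mk a b) ⟨WalkingPair.left⟩,
      hlim'.fac (BinaryFan.mk a b) ⟨WalkingPair.right⟩⟩
  -- the difference of the two sections on `Z ×_Y P`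
  let d : EtCoh.sect G ((EtCoh.bc f).obj P) :=
    G.obj.map ((EtCoh.bc f).map p₁).op t' - G.obj.map ((EtCoh.bc f).map p₂).op τ
  have hd : G.obj.map c.op d = 0 := by
    rw [map_sub, map_map, map_map, hca, hcb]
    exact sub_eq_zero.2 hab'
  -- the open locus
  have hopen : IsOpen {q : ((EtCoh.bc f).obj P).left | VanishesAt G ((EtCoh.bc f).obj P) d q} :=
    isOpen_vanishesAt G _ d
  obtain ⟨O, hO, hOeq⟩ := (isEmbedding_pr f P).isInducing.isOpen_iff.1 hopen
  let O' : P.left.Opens := ⟨O, hO⟩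
  let V' : Y.Etale := Scheme.Etale.mk (O'.ι ≫ P.hom)
  let j : V' ⟶ P := MorphismProperty.Over.homMk O'.ι rfl
  have hp : pr f P (c.left w) ∈ O := by
    have h1 : c.left w ∈ pr f P ⁻¹' O := by
      rw [hOeq]
      exact ⟨W, c, w, rfl, hd⟩
    exact h1
  refine ⟨V', j ≫ p₁, (⟨pr f P (c.left w), hp⟩ : O'), ?_, F.obj.map (j ≫ p₂).op σ, ?_⟩
  · change p₁.left (pr f P (c.left w)) = v
    rw [← map_pr_apply f p₁, ← hz, ← haw, ← hca]
    rfl
  · change PullUnit.unitSect f F V' (F.obj.map (j ≫ p₂).op σ) =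
      G.obj.map ((EtCoh.bc f).map (j ≫ p₁)).op t'
    have h0 : G.obj.map ((EtCoh.bc f).map j).op d = 0 := by
      apply eq_zero_of_vanishesAt
      intro q
      rw [vanishesAt_map_iff]
      have h1 : ((EtCoh.bc f).map j).left q ∈ pr f P ⁻¹' O := by
        change pr f P (((EtCoh.bc f).map j).left q) ∈ O
        rw [map_pr_apply]
        exact (pr f V' q : O').2
      rw [hOeq] at h1
      exact h1
    have h2 : G.obj.map ((EtCoh.bc f).map j).op (G.obj.map ((EtCoh.bc f).map p₁).op t') =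
        G.obj.map ((EtCoh.bc f).map j).op (G.obj.map ((EtCoh.bc f).map p₂).op τ) := by
      rw [← sub_eq_zero, ← map_sub]
      exact h0
    rw [map_map, map_map, ← (EtCoh.bc f).map_comp, ← (EtCoh.bc f).map_comp] at h2
    rw [h2]
    exact PullUnit.map_unitSect f F (j ≫ p₂) σ

open Groth.Agent.EtpbcA.Artin Groth.Agent.EtpbcA

/-- Points of the image of a preimmersion are not in the support of the kernel of the unit. -/
theorem not_mem_supp_kernel (F : EtCoh.Ab Y) {y : Y} (hy : y ∈ Set.range f) :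
    y ∉ EtPBC.supp (kernel ((EtCoh.pullPushAdj f).unit.app F)) := by
  rw [not_mem_supp_iff]
  intro U s v hv
  obtain ⟨z, hz⟩ := exists_pr_eq f U v (by rw [hv]; exact hy)
  let k := kernel.ι ((EtCoh.pullPushAdj f).unit.app F)
  have h0 : PullUnit.unitSect f F U (k.hom.app (op U) s) = 0 := by
    have := congrArg (fun m => m.hom.app (op U) s) (kernel.condition ((EtCoh.pullPushAdj f).unit.app F))
    exact this
  have h1 : VanishesAt ((EtCoh.pull f).obj F) ((EtCoh.bc f).obj U)
      (PullUnit.unitSect f F U (k.hom.app (op U) s)) z := by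
    rw [h0]
    exact vanishesAt_zero _ _ _
  rw [PullUnit.vanishesAt_unitSect_iff] at h1
  obtain ⟨V, g, w, hw, h2⟩ := h1
  refine ⟨V, g, ⟨w, hw.trans hz⟩, ?_⟩
  apply RpushTors.injective_of_mono k V
  rw [map_zero]
  exact (NatTrans.naturality_apply k.hom g.op s).trans h2

/-- Points of the image of a preimmersion are not in the support of the cokernel of the unit. -/
theorem not_mem_supp_cokernel [IsPreimmersion f] (F : EtCoh.Ab Y) {y : Y} (hy : y ∈ Set.range f) :
    y ∉ EtPBC.supp (cokernel ((EtCoh.pullPushAdj f).unit.app F)) := by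
  rw [not_mem_supp_iff]
  intro U s v hv
  let c := cokernel.π ((EtCoh.pullPushAdj f).unit.app F)
  obtain ⟨V, g, w, hw, t, ht⟩ := (StalkTools.epi_iff_locIm c).1 inferInstance U s v
  have hwy : V.hom w ∈ Set.range f := by
    have h1 : g.left ≫ U.hom = V.hom := Over.w g.hom
    rw [← h1, Scheme.Hom.comp_apply, hw, hv]
    exact hy
  obtain ⟨V', g', w', hw', σ, hσ⟩ := exists_locally_unit f F V w hwy t
  refine ⟨V', g' ≫ g, ⟨w', ?_⟩, ?_⟩
  · change g.left (g'.left w') = v
    rw [hw', hw]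
  · rw [← map_map, ← ht]
    refine (NatTrans.naturality_apply c.hom g'.op t).symm.trans ?_
    refine (congrArg (fun r => c.hom.app (op V') r) hσ.symm).trans ?_
    have := congrArg (fun m => m.hom.app (op V') σ)
      (cokernel.condition ((EtCoh.pullPushAdj f).unit.app F))
    exact this

end Groth.Agent.Etbc.H209.UnitPt
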