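import Groth.Agent.Etbc.H209.PrimFilt
import Groth.Agent.Etbc.H209.UnitPt
import Groth.Agent.EtpbcA.CdEtLeray
import Groth.Agent.EtpbcA.SuppCons

/-!
# Vanishing of cohomology from a dimension function: the induction

`induct`: `X` Noetherian, `φ : X → ℕ` strictly decreasing under proper specializations, `cd_ℓ(κ(x)) ≤ φ(x)`, and
`φ(y) + q < φ(x)` for `y` in the support of `R^q i_{x*} G`, `q ≥ 1`, `G` an `ℓ`-primary torsion sheaf on
`Spec κ(x)`.  Then an `ℓ`-primary torsion `F` with `φ < m` on its support has `H^n(X, F) = 0` for `n ≥ m`.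
-/

set_option autoImplicit false
universe u

open CategoryTheory CategoryTheory.Limits AlgebraicGeometry Opposite TopologicalSpace

namespace Groth.Agent.Etbc.H209.Induct

open Groth.Agent.CurvesA Groth.Agent.CurvesA.SubSheafEt Groth.Agent.Etbase.EtSections
  Groth.Agent.EtpbcA.Artin Groth.Agent.CurvesA.Punctual Groth.Agent.EtpbcA
  Groth.Agent.EtpbcA.SuppFilt Groth.Agent.Etbc.H209.PrimFilt Groth.Agent.Etbc.H211.PrimTors

variable {X : Scheme.{u}}

/-- In a closed subset `Z` of a Noetherian scheme on which `φ ≤ m`, only finitely many points have `φ = m`, for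
`φ` strictly decreasing under specialization. -/
theorem finite_max [IsNoetherian X] (φ : X → ℕ) (hφ : ∀ x y : X, x ⤳ y → x ≠ y → φ y < φ x) (m : ℕ)
    (Z : Set X) (hZ : IsClosed Z) (hZm : ∀ x ∈ Z, φ x ≤ m) : {x ∈ Z | φ x = m}.Finite := by
  obtain ⟨A, hAf, hAc, hAi, hA⟩ := NoetherianSpace.exists_finite_set_isClosed_irreducible hZ
  have hg : ∀ t : A, ∃ g : X, IsGenericPoint g t.1 := fun t =>
    QuasiSober.sober (hAi t t.2) (hAc t t.2)
  choose g hg using hg
  have := hAf.to_subtype
  refine (Set.finite_range g).subset ?_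
  rintro x ⟨hxZ, hxm⟩
  rw [hA] at hxZ
  obtain ⟨t, ht, hxt⟩ := hxZ
  refine ⟨⟨t, ht⟩, ?_⟩
  by_contra hne
  have h1 := hφ (g ⟨t, ht⟩) x ((hg ⟨t, ht⟩).specializes hxt) hne
  have h2 : φ (g ⟨t, ht⟩) ≤ m := hZm _ (by
    rw [hA]
    exact ⟨t, ht, (hg ⟨t, ht⟩).mem⟩)
  omega

/-- Vanishing in the middle of an exact sequence `F → G → coker → 0` with kernel: if `H^n(ker u) = 0`,
`H^n(G) = 0` and `H^{n-1}(coker u) = 0` then `H^n(F) = 0`. -/
theorem van_of_ker_coker {F G : EtCoh.Ab X} (u : F ⟶ G) (n : ℕ)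
    (hK : Subsingleton (EtCoh.H X (kernel u) (n + 1))) (hG : Subsingleton (EtCoh.H X G (n + 1)))
    (hC : Subsingleton (EtCoh.H X (cokernel u) n)) : Subsingleton (EtCoh.H X F (n + 1)) := by
  let S₂ : ShortComplex (EtCoh.Ab X) := ShortComplex.mk (Abelian.image.ι u) (cokernel.π u)
    (kernel.condition _)
  have hS₂ : S₂.ShortExact := ShortComplex.ShortExact.mk'
    (ShortComplex.exact_of_f_is_kernel _ (kernelIsKernel _))
    (inferInstanceAs (Mono (Abelian.image.ι u))) (inferInstanceAs (Epi (cokernel.π u)))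
  have hI : Subsingleton (EtCoh.H X (Abelian.image u) (n + 1)) := CohBasic.van_succ hS₂ n hG hC
  have w : kernel.ι u ≫ Abelian.factorThruImage u = 0 := by
    rw [← cancel_mono (Abelian.image.ι u), Category.assoc, Abelian.image.fac, kernel.condition,
      zero_comp]
  let S₁ : ShortComplex (EtCoh.Ab X) := ShortComplex.mk (kernel.ι u) (Abelian.factorThruImage u) w
  have hS₁ : S₁.ShortExact := by
    refine ShortComplex.ShortExact.mk' ?_ (inferInstanceAs (Mono (kernel.ι u)))
      (inferInstanceAs (Epi (Abelian.factorThruImage u)))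
    refine ShortComplex.exact_of_f_is_kernel _ ?_
    exact KernelFork.IsLimit.ofι' _ w (fun k hk => by
      refine ⟨kernel.lift u k ?_, kernel.lift_ι _ _ _⟩
      rw [← Abelian.image.fac u, ← Category.assoc, hk, zero_comp])
  exact CohBasic.van_mid hS₁ (n + 1) hK hI

section main

variable [IsNoetherian X] (ℓ : ℕ) (φ : X → ℕ) (hφ : ∀ x y : X, x ⤳ y → x ≠ y → φ y < φ x)
  (h1 : ∀ x : X, _root_.Dix.CohDimLEAt (Spec (X.residueField x)) ℓ (φ x))
  (hB : ∀ (x : X) (G : EtCoh.Ab (Spec (X.residueField x))), _root_.Dix.IsPrimaryTorsion ℓ G →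
    ∀ q : ℕ, ∀ y ∈ EtPBC.supp ((EtCoh.Rpush (X.fromSpecResidueField x) (q + 1)).obj G),
      φ y + (q + 1) < φ x)

omit [AlgebraicGeometry.IsNoetherian X] in
include h1 hB in
/-- Vanishing for the sheaves `i_{x*} G`. -/
theorem van_push (m : ℕ)
    (ih : ∀ k, k ≤ m → ∀ F : EtCoh.Ab X, _root_.Dix.IsPrimaryTorsion ℓ F →
      (∀ x ∈ EtPBC.supp F, φ x < k) → ∀ n, k ≤ n → Subsingleton (EtCoh.H X F n))
    (x : X) (hx : φ x ≤ m) (G : EtCoh.Ab (Spec (X.residueField x)))
    (hG : _root_.Dix.IsPrimaryTorsion ℓ G) (n : ℕ) (hn : m + 1 ≤ n) :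
    Subsingleton (EtCoh.H X ((EtCoh.push (X.fromSpecResidueField x)).obj G) n) := by
  obtain ⟨n, rfl⟩ : ∃ k, n = k + 1 := ⟨n - 1, by omega⟩
  refine CdEtLeray.H_push_subsingleton_of_reverse _ G n (h1 x G hG _ (by omega)) fun p q hpq => ?_
  refine ih (m - (q + 1)) (by omega) _ (isPrimaryTorsion_Rpush ℓ _ G hG (q + 1)) (fun y hy => ?_) p
    (by omega)
  have := hB x G hG q y hy
  omega

include hφ h1 hB in
/-- Vanishing for sheaves with finitely many points of the support where `φ = m`. -/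
theorem van_finite (m : ℕ)
    (ih : ∀ k, k ≤ m → ∀ F : EtCoh.Ab X, _root_.Dix.IsPrimaryTorsion ℓ F →
      (∀ x ∈ EtPBC.supp F, φ x < k) → ∀ n, k ≤ n → Subsingleton (EtCoh.H X F n))
    (T : Finset X) : ∀ F : EtCoh.Ab X, _root_.Dix.IsPrimaryTorsion ℓ F →
      (∀ x ∈ EtPBC.supp F, φ x < m + 1) → (∀ x ∈ EtPBC.supp F, φ x = m → x ∈ T) →
      ∀ n, m + 1 ≤ n → Subsingleton (EtCoh.H X F n) := by
  classical
  induction T using Finset.induction_on with
  | empty =>
    intro F hF hs hT n hn
    refine ih m le_rfl F hF (fun x hx => ?_) n (by omega)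
    have h2 := hs x hx
    have h3 : φ x ≠ m := fun h => (Finset.notMem_empty x) (hT x hx h)
    omega
  | insert x T hxT ihT =>
    intro F hF hs hT n hn
    by_cases hx : x ∈ EtPBC.supp F ∧ φ x = m
    · obtain ⟨hxF, hxm⟩ := hx
      obtain ⟨n, rfl⟩ : ∃ k, n = k + 1 := ⟨n - 1, by omega⟩
      let i := X.fromSpecResidueField x
      let u := (EtCoh.pullPushAdj i).unit.app F
      have hxr : x ∈ Set.range i := by
        rw [X.range_fromSpecResidueField x]
        rfl
      have hG : _root_.Dix.IsPrimaryTorsion ℓ ((EtCoh.pull i).obj F) := isPrimaryTorsion_pull ℓ i F hF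
      refine van_of_ker_coker u n ?_ (van_push ℓ φ h1 hB m ih x hxm.le _ hG (n + 1) hn) ?_
      · have hsub : EtPBC.supp (kernel u) ⊆ EtPBC.supp F := SuppCons.supp_subset_of_mono (kernel.ι u)
        refine ihT _ (isPrimaryTorsion_of_mono (kernel.ι u) hF) (fun y hy => hs y (hsub hy))
          (fun y hy hym => ?_) (n + 1) hn
        have h2 := hT y (hsub hy) hym
        rw [Finset.mem_insert] at h2
        refine h2.resolve_left fun h3 => ?_
        subst h3
        exact UnitPt.not_mem_supp_kernel i F hxr hy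
      · refine ih m le_rfl _ (isPrimaryTorsion_of_epi (cokernel.π u)
          (isPrimaryTorsion_push ℓ i _ hG)) (fun y hy => ?_) n (by omega)
        have h2 : y ∈ closure (Set.range i) :=
          supp_push_subset i _ (SuppClosed.supp_of_epi (cokernel.π u) hy)
        rw [X.range_fromSpecResidueField x, ← specializes_iff_mem_closure] at h2
        have h3 : x ≠ y := fun h => UnitPt.not_mem_supp_cokernel i F (y := y) (h ▸ hxr) hy
        rw [← hxm]
        exact hφ x y h2 h3
    · refine ihT F hF hs (fun y hy hym => ?_) n hn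
      have h2 := hT y hy hym
      rw [Finset.mem_insert] at h2
      exact h2.resolve_left fun h3 => hx ⟨h3 ▸ hy, h3 ▸ hym⟩

include hφ h1 hB in
theorem induct (m : ℕ) : ∀ F : EtCoh.Ab X, _root_.Dix.IsPrimaryTorsion ℓ F →
    (∀ x ∈ EtPBC.supp F, φ x < m) → ∀ n, m ≤ n → Subsingleton (EtCoh.H X F n) := by
  induction m using Nat.strong_induction_on with
  | _ m ih =>
    cases m with
    | zero =>
      intro F _ hs n _
      have h0 : IsZero F := isZero_of_forall F fun x hx => by
        have := hs x hx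
        omega
      exact CdEtLeray.H_subsingleton_of_isZero h0 n
    | succ m =>
      intro F hF hs n hn
      refine van_of_supp_stable' {x | φ x < m + 1} n (fun x y hxy hx => ?_) F hs ?_
      · by_cases h : x = y
        · exact h ▸ hx
        · exact (hφ x y hxy h).trans hx
      · intro Z hZ hZE
        have hfin := finite_max φ hφ m Z hZ (fun x hx => Nat.lt_succ_iff.1 (hZE hx))
        have hsub := supp_sub F Z
        refine van_finite ℓ φ hφ h1 hB m (fun k hk => ih k (by omega)) hfin.toFinset _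
          (isPrimaryTorsion_of_mono (ι (suppData F Z)) hF) (fun x hx => hs x (hsub hx).2)
          (fun x hx hxm => ?_) n hn
        rw [Set.Finite.mem_toFinset]
        exact ⟨(hsub hx).1, hxm⟩

end main

end Groth.Agent.Etbc.H209.Induct
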