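import Groth.Agent.Etbc.H211.PrimTors
import Groth.Agent.EtpbcA.SuppFilt
import Groth.Agent.EtpbcA.SuppClosed
import Groth.Agent.EtpbcA.StalkTools
import Groth.Agent.S0099

/-!
# ℓ-primary torsion sheaves: subsheaves, quotients, closed supports

* `isPrimaryTorsion_of_mono`, `isPrimaryTorsion_of_epi`;
* `van_of_supp_stable'`: on a Noetherian scheme, if `F` is supported in a specialization-stable set `E` and
  `H^n` of each subsheaf of sections supported in a closed `Z ⊆ E` vanishes then `H^n(X, F) = 0`.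
* `supp_push_subset`: the support of `f_* G` lies in the closure of the image of `f`.
-/

set_option autoImplicit false
universe u

open CategoryTheory CategoryTheory.Limits AlgebraicGeometry Opposite TopologicalSpace

namespace Groth.Agent.Etbc.H209.PrimFilt

open Groth.Agent.CurvesA Groth.Agent.CurvesA.SubSheafEt Groth.Agent.Etbase.EtSections
  Groth.Agent.EtpbcA.Artin Groth.Agent.CurvesA.Punctual Groth.Agent.EtpbcA
  Groth.Agent.EtpbcA.SuppFilt

variable {X Y : Scheme.{u}} {ℓ : ℕ}

/-- Subsheaves of `ℓ`-primary torsion sheaves are `ℓ`-primary torsion. -/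
theorem isPrimaryTorsion_of_mono {F G : EtCoh.Ab X} (φ : G ⟶ F) [Mono φ]
    (hF : _root_.Dix.IsPrimaryTorsion ℓ F) : _root_.Dix.IsPrimaryTorsion ℓ G := by
  intro U s x
  obtain ⟨V, g, hv, k, hk⟩ := hF U (φ.hom.app (op U) s) x
  refine ⟨V, g, hv, k, ?_⟩
  apply RpushTors.injective_of_mono φ V
  rw [map_nsmul, map_zero]
  exact (congrArg (fun t => ℓ ^ k • t) (NatTrans.naturality_apply φ.hom g.op s)).trans hk

/-- Quotients of `ℓ`-primary torsion sheaves are `ℓ`-primary torsion. -/
theorem isPrimaryTorsion_of_epi {F G : EtCoh.Ab X} (φ : F ⟶ G) [Epi φ]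
    (hF : _root_.Dix.IsPrimaryTorsion ℓ F) : _root_.Dix.IsPrimaryTorsion ℓ G := by
  intro U s x
  obtain ⟨V, g, v, hv, t, ht⟩ := (StalkTools.epi_iff_locIm φ).1 inferInstance U s x
  obtain ⟨W, k, ⟨w, hw⟩, n, hn⟩ := hF V t v
  refine ⟨W, k ≫ g, ⟨w, ?_⟩, n, ?_⟩
  · change g.left (k.left w) = x
    rw [← hv]
    exact congrArg g.left hw
  · rw [← map_map, ← ht]
    refine (congrArg (fun r => ℓ ^ n • r) (NatTrans.naturality_apply φ.hom k.op t)).symm.trans ?_
    rw [← map_nsmul, hn, map_zero]

variable (E : Set X)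

/-- Vanishing for the subsheaves of sections supported in closed subsets of a specialization-stable set
implies vanishing for a sheaf supported in that set. -/
theorem van_of_supp_stable' [IsNoetherian X] (n : ℕ)
    (hE : ∀ x y : X, x ⤳ y → x ∈ E → y ∈ E) (F : EtCoh.Ab X) (hFE : EtPBC.supp F ⊆ E)
    (hvan : ∀ Z : Set X, IsClosed Z → Z ⊆ E → Subsingleton (EtCoh.H X (sub (suppData F Z)) n)) :
    Subsingleton (EtCoh.H X F n) := by
  have hcol : PreservesColimitsOfShape (Index X E) (EtCoh.HF X n) :=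
    S0099.result X n (SuppFilt.Index X _)
  have := epi_cmp E F hE hFE
  have : IsIso (cmp E F) := isIso_of_mono_of_epi _
  refine CohBasic.van_of_iso (asIso (cmp E F)) n ?_
  have hc := isColimitOfPreserves (EtCoh.HF X n) (colimit.isColimit (sys E F))
  have hz : ∀ T : Index X E, Subsingleton ((EtCoh.HF X n).obj ((sys E F).obj T)) := fun T =>
    hvan T.1 T.1.isClosed T.2
  have : IsZero ((EtCoh.HF X n).obj (colimit (sys E F))) := by
    rw [IsZero.iff_id_eq_zero]
    refine hc.hom_ext fun T => ?_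
    exact (AddCommGrpCat.isZero_of_subsingleton ((EtCoh.HF X n).obj ((sys E F).obj T))).eq_of_src _ _
  exact AddCommGrpCat.subsingleton_of_isZero this

/-- Sections of a sheaf on an empty scheme vanish. -/
theorem subsingleton_sect_of_isEmpty (G : EtCoh.Ab X) (U : X.Etale) [IsEmpty U.left] :
    Subsingleton (EtCoh.sect G U) :=
  ⟨fun s t => Groth.Agent.Etbase.EtSite.sect_ext G U s t fun x => (IsEmpty.false x).elim⟩

/-- The support of `f_* G` is contained in the closure of the image of `f`. -/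
theorem supp_push_subset (f : X ⟶ Y) (G : EtCoh.Ab X) :
    EtPBC.supp ((EtCoh.push f).obj G) ⊆ closure (Set.range f) := by
  intro y hy
  by_contra hyc
  refine (not_mem_supp_iff _ y).2 ?_ hy
  intro U s v hv
  let O : U.left.Opens := ⟨U.hom ⁻¹' (closure (Set.range f))ᶜ,
    (isClosed_closure.isOpen_compl).preimage U.hom.continuous⟩
  let V : Y.Etale := Scheme.Etale.mk (O.ι ≫ U.hom)
  let g : V ⟶ U := MorphismProperty.Over.homMk O.ι rfl
  have hvO : v ∈ O := by
    change U.hom v ∈ (closure (Set.range f))ᶜ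
    rw [hv]
    exact hyc
  refine ⟨V, g, ⟨(⟨v, hvO⟩ : O), rfl⟩, ?_⟩
  have : IsEmpty ((EtCoh.bc f).obj V).left := by
    refine ⟨fun z => ?_⟩
    have h1 : (pullback.fst (O.ι ≫ U.hom) f ≫ (O.ι ≫ U.hom)) z =
        (pullback.snd (O.ι ≫ U.hom) f ≫ f) z :=
      congrArg (fun (m : pullback (O.ι ≫ U.hom) f ⟶ Y) => m z) pullback.condition
    have h2 : U.hom (pullback.fst (O.ι ≫ U.hom) f z : O).1 ∈ Set.range f := by
      refine ⟨pullback.snd (O.ι ≫ U.hom) f z, ?_⟩
      exact h1.symm
    exact (pullback.fst (O.ι ≫ U.hom) f z : O).2 (subset_closure h2)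
  exact (subsingleton_sect_of_isEmpty G ((EtCoh.bc f).obj V)).elim _ _

end Groth.Agent.Etbc.H209.PrimFilt
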